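import Mathlib
import Cfsg.Agent.H672.Ext
import Cfsg.Agent.H672.Cases
import Cfsg.Agent.OddOrderCharacters.PF9.CliffGen

/-!
# Counting characters of degree prime to `p` over a character of a subgroup
-/

set_option autoImplicit false
set_option linter.style.haveILetI false
set_option linter.unusedSectionVars false
open Cfsg

namespace Cfsg.Agent.H672.RM

open Cfsg.Agent.Characters.Core Cfsg.Agent.Characters.Clifford Cfsg.Agent.H672
open scoped ComplexConjugate

universe u v w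

/-- The number of irreducible characters of degree prime to `p` over `θ` along `f`. -/
noncomputable def Cnt (p : ℕ) {G : Type u} {H : Type v} [Group G] [Group H] [Finite H]
    (f : H →* G) (θ : H → ℂ) : ℕ :=
  Nat.card {χ : IrrCharacter G // ¬ p ∣ charDegree (χ : G → ℂ) ∧ Over f (χ : G → ℂ) θ}

section iso
variable {G : Type u} {G' : Type w} {H : Type v} {H' : Type*} [Group G] [Group G'] [Group H]
  [Group H'] [Finite H] [Finite H'] [Finite G] [Finite G']

/-- irreducible characters and isomorphisms -/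
def irrEquiv (e : G ≃* G') : IrrCharacter G' ≃ IrrCharacter G where
  toFun χ := ⟨(χ : G' → ℂ) ∘ e, isIrr_comp e.toMonoidHom e.surjective χ.2⟩
  invFun χ := ⟨(χ : G → ℂ) ∘ e.symm, isIrr_comp e.symm.toMonoidHom e.symm.surjective χ.2⟩
  left_inv χ := by apply Subtype.ext; funext x; simp
  right_inv χ := by apply Subtype.ext; funext x; simp

theorem cnt_congr (p : ℕ) (e : G ≃* G') (e0 : H ≃* H') (f : H →* G) (f' : H' →* G')
    (hf : ∀ h, f' (e0 h) = e (f h)) (θ : H → ℂ) (θ' : H' → ℂ) (hθ : ∀ h, θ' (e0 h) = θ h) :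
    Cnt p f θ = Cnt p f' θ' := by
  symm
  refine Nat.card_congr ((irrEquiv e).subtypeEquiv ?_)
  intro χ
  have h1 : charDegree ((irrEquiv e χ : IrrCharacter G) : G → ℂ) = charDegree (χ : G' → ℂ) :=
    charDegree_comp_one e.toMonoidHom _
  have h2 : Over f ((irrEquiv e χ : IrrCharacter G) : G → ℂ) θ ↔ Over f' (χ : G' → ℂ) θ' := by
    rw [← over_comp_equiv f' e0]
    have e1 : (f'.comp e0.toMonoidHom) = e.toMonoidHom.comp f := by
      ext h; exact hf h
    have e2 : θ' ∘ e0 = θ := funext hθ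
    rw [e1, e2]
    rfl
  rw [h1, h2]

end iso

section tw
variable {G : Type u} [Group G] (K : Subgroup G)

open Classical in
/-- the conjugate function `k ↦ θ (g k g⁻¹)` -/
noncomputable def tw (g : G) (θ : K → ℂ) : K → ℂ := fun k =>
  if h : g * (k : G) * g⁻¹ ∈ K then θ ⟨g * (k : G) * g⁻¹, h⟩ else 0

variable {K}

theorem conj_mem_of_mem {g : G} (hg : g ∈ Subgroup.normalizer (K : Set G)) (k : K) :
    g * (k : G) * g⁻¹ ∈ K := ((Subgroup.mem_normalizer_iff.1 hg) k).1 k.2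

theorem tw_apply {g : G} (hg : g ∈ Subgroup.normalizer (K : Set G)) (θ : K → ℂ) (k : K) :
    tw K g θ k = θ ⟨g * (k : G) * g⁻¹, conj_mem_of_mem hg k⟩ := by
  unfold tw
  rw [dif_pos (conj_mem_of_mem hg k)]

theorem tw_apply' {g : G} (hg : g ∈ Subgroup.normalizer (K : Set G)) (θ : K → ℂ) (k k' : K)
    (h : (k' : G) = g * k * g⁻¹) : tw K g θ k = θ k' := by
  rw [tw_apply hg]
  congr 1
  exact Subtype.ext h.symm

/-- conjugation as an automorphism -/
def cj {g : G} (hg : g ∈ Subgroup.normalizer (K : Set G)) : K ≃* K where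
  toFun k := ⟨g * (k : G) * g⁻¹, conj_mem_of_mem hg k⟩
  invFun k := ⟨g⁻¹ * (k : G) * (g⁻¹)⁻¹, conj_mem_of_mem (Subgroup.inv_mem _ hg) k⟩
  left_inv k := by apply Subtype.ext; simp [mul_assoc]
  right_inv k := by apply Subtype.ext; simp [mul_assoc]
  map_mul' a b := by apply Subtype.ext; simp [mul_assoc]

theorem coe_cj {g : G} (hg : g ∈ Subgroup.normalizer (K : Set G)) (k : K) :
    ((cj hg k : K) : G) = g * k * g⁻¹ := rfl

theorem tw_eq_comp {g : G} (hg : g ∈ Subgroup.normalizer (K : Set G)) (θ : K → ℂ) :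
    tw K g θ = θ ∘ cj hg := funext fun k => tw_apply hg θ k

theorem isIrr_tw [Finite K] {g : G} (hg : g ∈ Subgroup.normalizer (K : Set G)) {θ : K → ℂ}
    (hθ : IsIrrCharacter K θ) : IsIrrCharacter K (tw K g θ) := by
  rw [tw_eq_comp hg]
  exact isIrr_comp (cj hg).toMonoidHom (cj hg).surjective hθ

theorem charDegree_tw [Finite K] {g : G} (hg : g ∈ Subgroup.normalizer (K : Set G)) (θ : K → ℂ) :
    charDegree (tw K g θ) = charDegree θ := by
  rw [tw_eq_comp hg]
  exact charDegree_comp_one (cj hg).toMonoidHom θ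

theorem tw_one (θ : K → ℂ) : tw K 1 θ = θ := by
  funext k
  exact tw_apply' (Subgroup.one_mem _) θ k k (by simp)

theorem tw_mul {a b : G} (ha : a ∈ Subgroup.normalizer (K : Set G))
    (hb : b ∈ Subgroup.normalizer (K : Set G)) (θ : K → ℂ) :
    tw K (a * b) θ = tw K b (tw K a θ) := by
  funext k
  rw [tw_apply hb, tw_apply ha, tw_apply (Subgroup.mul_mem _ ha hb)]
  congr 1
  apply Subtype.ext
  simp [mul_assoc]

/-- the stabilizer of a function on `K` in the normalizer of `K` -/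
noncomputable def stab (θ : K → ℂ) : Subgroup G where
  carrier := {g | g ∈ Subgroup.normalizer (K : Set G) ∧ tw K g θ = θ}
  one_mem' := ⟨Subgroup.one_mem _, tw_one θ⟩
  mul_mem' := by
    rintro a b ⟨ha, ha'⟩ ⟨hb, hb'⟩
    refine ⟨Subgroup.mul_mem _ ha hb, ?_⟩
    rw [tw_mul ha hb, ha', hb']
  inv_mem' := by
    rintro a ⟨ha, ha'⟩
    refine ⟨Subgroup.inv_mem _ ha, ?_⟩
    conv_lhs => rw [← ha']
    rw [← tw_mul ha (Subgroup.inv_mem _ ha), mul_inv_cancel, tw_one]

theorem mem_stab {θ : K → ℂ} {g : G} :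
    g ∈ stab θ ↔ g ∈ Subgroup.normalizer (K : Set G) ∧ tw K g θ = θ := Iff.rfl

theorem stab_le (θ : K → ℂ) : stab θ ≤ Subgroup.normalizer (K : Set G) := fun _ h => h.1

theorem le_stab {θ : K → ℂ} (hθ : IsClassFunction K θ) : K ≤ stab θ := by
  intro k hk
  refine ⟨Subgroup.le_normalizer hk, ?_⟩
  funext x
  rw [tw_apply (Subgroup.le_normalizer hk)]
  exact hθ x ⟨k, hk⟩

/-- the stabilizer of a conjugate -/
theorem mem_stab_tw {θ : K → ℂ} {g x : G} (hg : g ∈ Subgroup.normalizer (K : Set G)) :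
    x ∈ stab (tw K g θ) ↔ g * x * g⁻¹ ∈ stab θ := by
  have hinv : g⁻¹ ∈ Subgroup.normalizer (K : Set G) := Subgroup.inv_mem _ hg
  constructor
  · rintro ⟨hx, hx'⟩
    have h1 : g * x * g⁻¹ ∈ Subgroup.normalizer (K : Set G) :=
      Subgroup.mul_mem _ (Subgroup.mul_mem _ hg hx) hinv
    refine ⟨h1, ?_⟩
    have h2 : tw K (g * x * g⁻¹ * g) θ = tw K g θ := by
      rw [inv_mul_cancel_right, tw_mul hg hx, hx']
    rw [tw_mul h1 hg] at h2
    have h3 := congrArg (tw K g⁻¹) h2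
    rwa [← tw_mul hg hinv, ← tw_mul hg hinv, mul_inv_cancel, tw_one, tw_one] at h3
  · rintro ⟨hx, hx'⟩
    have h1 : x ∈ Subgroup.normalizer (K : Set G) := by
      have := Subgroup.mul_mem _ (Subgroup.mul_mem _ hinv hx) hg
      have e : g⁻¹ * (g * x * g⁻¹) * g = x := by group
      rwa [e] at this
    refine ⟨h1, ?_⟩
    have e : g * x = (g * x * g⁻¹) * g := by group
    rw [← tw_mul hg h1, e, tw_mul hx hg, hx']

end tw

section sub
variable {G : Type u} [Group G] [Finite G] {K U : Subgroup G}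

theorem normal_subgroupOf (hU : U ≤ Subgroup.normalizer (K : Set G)) :
    (K.subgroupOf U).Normal := by
  constructor
  intro n hn g
  rw [Subgroup.mem_subgroupOf] at hn ⊢
  exact conj_mem_of_mem (hU g.2) ⟨n, hn⟩

theorem over_iff_sub (hKU : K ≤ U) (ψ : U → ℂ) (θ : K → ℂ) :
    Over (Subgroup.inclusion hKU) ψ θ ↔
      Over (K.subgroupOf U).subtype ψ (θ ∘ Subgroup.subgroupOfEquivOfLe hKU) := by
  rw [← over_comp_equiv (Subgroup.inclusion hKU) (Subgroup.subgroupOfEquivOfLe hKU)]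
  rfl

theorem isIrr_sub (hKU : K ≤ U) {θ : K → ℂ} (hθ : IsIrrCharacter K θ) :
    IsIrrCharacter (K.subgroupOf U) (θ ∘ Subgroup.subgroupOfEquivOfLe hKU) :=
  isIrr_comp (Subgroup.subgroupOfEquivOfLe hKU).toMonoidHom
    (Subgroup.subgroupOfEquivOfLe hKU).surjective hθ

theorem tw_sub (hKU : K ≤ U) (hU : U ≤ Subgroup.normalizer (K : Set G)) (θ : K → ℂ) (g : U) :
    haveI := normal_subgroupOf hU
    (θ ∘ Subgroup.subgroupOfEquivOfLe hKU) ∘ (MulAut.conjNormal g : MulAut (K.subgroupOf U)) =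
      (tw K g θ) ∘ Subgroup.subgroupOfEquivOfLe hKU := by
  haveI := normal_subgroupOf hU
  funext x
  simp only [Function.comp]
  symm
  exact tw_apply' (hU g.2) θ _ _ rfl

theorem inertia_sub (hKU : K ≤ U) (hU : U ≤ Subgroup.normalizer (K : Set G)) (θ : K → ℂ) :
    haveI := normal_subgroupOf hU
    inertia (K.subgroupOf U) (θ ∘ Subgroup.subgroupOfEquivOfLe hKU) = (stab θ).subgroupOf U := by
  haveI := normal_subgroupOf hU
  ext g
  rw [mem_inertia, tw_sub hKU hU, Subgroup.mem_subgroupOf, mem_stab]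
  constructor
  · intro h
    refine ⟨hU g.2, ?_⟩
    exact (Subgroup.subgroupOfEquivOfLe hKU).surjective.injective_comp_right h
  · rintro ⟨-, h⟩
    rw [h]

theorem dvd_of_over (hKU : K ≤ U) (hU : U ≤ Subgroup.normalizer (K : Set G)) {ψ : U → ℂ}
    (hψ : IsIrrCharacter U ψ) {θ : K → ℂ} (hθ : IsIrrCharacter K θ)
    (ho : Over (Subgroup.inclusion hKU) ψ θ) :
    (stab θ).relIndex U * charDegree θ ∣ charDegree ψ := by
  haveI := normal_subgroupOf hU
  have h := index_mul_charDegree_dvd (K.subgroupOf U) hψ (isIrr_sub hKU hθ)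
    ((over_iff_sub hKU ψ θ).1 ho)
  rw [inertia_sub hKU hU θ] at h
  have e : charDegree (θ ∘ Subgroup.subgroupOfEquivOfLe hKU) = charDegree θ :=
    charDegree_comp_one (Subgroup.subgroupOfEquivOfLe hKU).toMonoidHom θ
  rw [e] at h
  exact h

theorem div_dvd_of_over (hKU : K ≤ U) (hU : U ≤ Subgroup.normalizer (K : Set G)) {ψ : U → ℂ}
    (hψ : IsIrrCharacter U ψ) {θ : K → ℂ} (hθ : IsIrrCharacter K θ)
    (ho : Over (Subgroup.inclusion hKU) ψ θ) :
    charDegree θ ∣ charDegree ψ ∧ charDegree ψ / charDegree θ ∣ K.relIndex U := by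
  haveI := normal_subgroupOf hU
  have h := charDegree_dvd_of_over (K.subgroupOf U) hψ (isIrr_sub hKU hθ)
    ((over_iff_sub hKU ψ θ).1 ho)
  have e : charDegree (θ ∘ Subgroup.subgroupOfEquivOfLe hKU) = charDegree θ :=
    charDegree_comp_one (Subgroup.subgroupOfEquivOfLe hKU).toMonoidHom θ
  rw [e] at h
  exact h

theorem exists_tw_of_over (hKU : K ≤ U) (hU : U ≤ Subgroup.normalizer (K : Set G)) {ψ : U → ℂ}
    (hψ : IsIrrCharacter U ψ) {θ θ' : K → ℂ} (hθ : IsIrrCharacter K θ)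
    (hθ' : IsIrrCharacter K θ')
    (ho : Over (Subgroup.inclusion hKU) ψ θ) (ho' : Over (Subgroup.inclusion hKU) ψ θ') :
    ∃ g ∈ U, θ' = tw K g θ := by
  classical
  haveI := normal_subgroupOf hU
  letI := Fintype.ofFinite U
  letI := Fintype.ofFinite (K.subgroupOf U)
  obtain ⟨g, hg⟩ := exists_conj_of_constituents (K.subgroupOf U) hψ (isIrr_sub hKU hθ)
    (isIrr_sub hKU hθ') ((over_subtype_iff _ _ _).1 ((over_iff_sub hKU ψ θ).1 ho))
    ((over_subtype_iff _ _ _).1 ((over_iff_sub hKU ψ θ').1 ho'))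
  rw [tw_sub hKU hU] at hg
  exact ⟨g, g.2, (Subgroup.subgroupOfEquivOfLe hKU).surjective.injective_comp_right hg⟩

theorem over_tw (hKU : K ≤ U) (hU : U ≤ Subgroup.normalizer (K : Set G)) {ψ : U → ℂ}
    (hψ : IsClassFunction U ψ) {θ : K → ℂ} {g : G} (hg : g ∈ U) :
    Over (Subgroup.inclusion hKU) ψ (tw K g θ) ↔ Over (Subgroup.inclusion hKU) ψ θ := by
  classical
  haveI := normal_subgroupOf hU
  letI := Fintype.ofFinite U
  letI := Fintype.ofFinite (K.subgroupOf U)
  rw [over_iff_sub hKU, over_iff_sub hKU, over_subtype_iff, over_subtype_iff,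
    ← tw_sub hKU hU θ ⟨g, hg⟩, classInner_restrict_conjNormal hψ]

end sub

end Cfsg.Agent.H672.RM
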