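import Mathlib
import Cfsg.Agent.H672.RM.Basic

/-!
# Clifford correspondence and counting
-/

set_option autoImplicit false
set_option linter.style.haveILetI false
set_option linter.unusedSectionVars false
open Cfsg

namespace Cfsg.Agent.H672.RM

open Cfsg.Agent.Characters.Core Cfsg.Agent.Characters.Clifford Cfsg.Agent.H672
open Cfsg.Agent.OddOrderCharacters
open scoped ComplexConjugate

universe u v w

theorem over_self_indFun {G : Type u} [Group G] [Fintype G] (T : Subgroup G) {ψ : T → ℂ}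
    (hχ : IsIrrCharacter G (indFun T ψ)) : Over T.subtype (indFun T ψ) ψ := by
  classical
  letI := Fintype.ofFinite T
  rw [over_iff]
  have h := IndRes.classInner_indFun_right T ψ (isIrr_isClassFunction hχ)
  rw [classInner_irr_self hχ] at h
  intro h0
  have h1 : classInner (IndRes.res T (indFun T ψ)) ψ = 0 := h0
  rw [h1] at h
  exact one_ne_zero h

theorem over_resTo {G : Type u} [Group G] {N T : Subgroup G} [Fintype N] (hNT : N ≤ T)
    (ψ : T → ℂ) (θ : N → ℂ) : Over (Subgroup.inclusion hNT) ψ θ ↔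
      classInner (PF9.CliffGen.resTo hNT ψ) θ ≠ 0 := over_iff _ _ _

theorem over_res {G : Type u} [Group G] {N : Subgroup G} [Fintype N]
    (χ : G → ℂ) (θ : N → ℂ) : Over N.subtype χ θ ↔
      classInner (IndRes.res N χ) θ ≠ 0 := over_iff _ _ _

theorem over_indFun {G : Type u} [Group G] [Fintype G] (N : Subgroup G)
    {θ : N → ℂ} (hθ : IsIrrCharacter N θ) (T : Subgroup G) (hNT : N ≤ T) {ψ : T → ℂ}
    (hψ : IsIrrCharacter T ψ) (hχ : IsIrrCharacter G (indFun T ψ))
    (h : Over (Subgroup.inclusion hNT) ψ θ) : Over N.subtype (indFun T ψ) θ := by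
  have e : T.subtype.comp (Subgroup.inclusion hNT) = N.subtype := rfl
  rw [← e]
  exact (over_comp_iff _ _ (isIrr_isCharacter hχ) hθ).2 ⟨ψ, hψ, over_self_indFun T hχ, h⟩

theorem mem_iff_conjFn {G : Type u} [Group G] [Finite G] (N : Subgroup G) [hN : N.Normal]
    {θ : N → ℂ} (T : Subgroup G) (hT : T = inertia N θ) (g : G) :
    g ∈ T ↔ NormalInduced.conjFn N θ g = θ := by
  rw [hT, mem_inertia_iff, funext_iff]
  exact Iff.rfl

/-- The Clifford correspondence as an equality of numbers. -/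
theorem cnt_clifford_normal {p : ℕ} {G : Type u} [Group G] [Finite G] (N : Subgroup G) [hN : N.Normal]
    {θ : N → ℂ} (hθ : IsIrrCharacter N θ) (T : Subgroup G) (hT : T = inertia N θ) (hNT : N ≤ T)
    (hp : p.Prime) (hidx : ¬ p ∣ T.index) :
    Cnt p N.subtype θ = Cnt p (Subgroup.inclusion hNT) θ := by
  classical
  letI := Fintype.ofFinite G
  letI := Fintype.ofFinite N
  letI := Fintype.ofFinite T
  have hT' := mem_iff_conjFn N T hT
  have hdeg : ∀ {ψ : T → ℂ}, IsIrrCharacter T ψ → charDegree (indFun T ψ) = T.index * charDegree ψ :=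
    fun hψ => charDegree_indFun T hψ rfl
  have hirr : ∀ {ψ : T → ℂ}, IsIrrCharacter T ψ → Over (Subgroup.inclusion hNT) ψ θ →
      IsIrrCharacter G (indFun T ψ) := fun hψ h =>
    PF9.CliffGen.irr_ind hθ hT' hNT hψ ((over_resTo hNT _ _).1 h)
  let F : {χ : IrrCharacter T // ¬ p ∣ charDegree (χ : T → ℂ) ∧
      Over (Subgroup.inclusion hNT) (χ : T → ℂ) θ} →
      {χ : IrrCharacter G // ¬ p ∣ charDegree (χ : G → ℂ) ∧ Over N.subtype (χ : G → ℂ) θ} :=
    fun ψ => ⟨⟨indFun T (ψ.1 : T → ℂ), hirr ψ.1.2 ψ.2.2⟩, by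
      refine ⟨?_, over_indFun N hθ T hNT ψ.1.2 (hirr ψ.1.2 ψ.2.2) ψ.2.2⟩
      change ¬ p ∣ charDegree (indFun T (ψ.1 : T → ℂ))
      rw [hdeg ψ.1.2]
      intro h
      rcases (Nat.Prime.dvd_mul hp).1 h with h | h
      · exact hidx h
      · exact ψ.2.1 h⟩
  have hF1 : Function.Injective F := by
    intro ψ ψ' h
    apply Subtype.ext
    apply Subtype.ext
    have h1 : indFun T (ψ.1 : T → ℂ) = indFun T (ψ'.1 : T → ℂ) :=
      congrArg (fun x => (x.1 : G → ℂ)) h
    exact PF9.CliffGen.ind_inj hθ hT' hNT ψ.1.2 ψ'.1.2 ((over_resTo hNT _ _).1 ψ.2.2)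
      ((over_resTo hNT _ _).1 ψ'.2.2) h1
  have hF2 : Function.Surjective F := by
    rintro ⟨⟨χ, hχ⟩, h1, h2⟩
    obtain ⟨ψ, hψ, h3, h4⟩ := PF9.CliffGen.exists_ind hθ hT' hNT hχ ((over_res _ _).1 h2)
    refine ⟨⟨⟨ψ, hψ⟩, ?_, (over_resTo hNT _ _).2 h3⟩, Subtype.ext (Subtype.ext h4.symm)⟩
    change ¬ p ∣ charDegree ψ
    change ¬ p ∣ charDegree χ at h1
    rw [h4, hdeg hψ] at h1
    exact fun h => h1 (h.mul_left _)
  exact (Nat.card_congr (Equiv.ofBijective F ⟨hF1, hF2⟩)).symm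

section sub
variable {G : Type u} [Group G] [Finite G] {K U : Subgroup G}

theorem cnt_sub {p : ℕ} (hKU : K ≤ U) (θ : K → ℂ) :
    Cnt p (Subgroup.inclusion hKU) θ =
      Cnt p (K.subgroupOf U).subtype (θ ∘ Subgroup.subgroupOfEquivOfLe hKU) :=
  (cnt_congr p (MulEquiv.refl U) (Subgroup.subgroupOfEquivOfLe hKU) _ _ (fun _ => rfl) _ _
    (fun _ => rfl)).symm

theorem cnt_eq_of_eq {p : ℕ} {V W : Subgroup G} (hKV : K ≤ V) (hKW : K ≤ W) (h : V = W)
    (θ : K → ℂ) : Cnt p (Subgroup.inclusion hKV) θ = Cnt p (Subgroup.inclusion hKW) θ := by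
  subst h; rfl

/-- Clifford correspondence for a subgroup `U` of the normalizer of `K`. -/
theorem cnt_clifford {p : ℕ} (hp : p.Prime) (hKU : K ≤ U)
    (hU : U ≤ Subgroup.normalizer (K : Set G)) {θ : K → ℂ}
    (hθ : IsIrrCharacter K θ) (hKT : K ≤ U ⊓ stab θ) (hidx : ¬ p ∣ (stab θ).relIndex U) :
    Cnt p (Subgroup.inclusion hKU) θ = Cnt p (Subgroup.inclusion hKT) θ := by
  haveI := normal_subgroupOf hU
  have hle : K.subgroupOf U ≤ (stab θ).subgroupOf U :=
    Subgroup.comap_mono (hKT.trans inf_le_right)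
  have h1 := cnt_clifford_normal (p := p) (K.subgroupOf U) (isIrr_sub hKU hθ)
    ((stab θ).subgroupOf U) (inertia_sub hKU hU θ).symm hle hp hidx
  rw [cnt_sub hKU, h1]
  let e : (stab θ).subgroupOf U ≃* (U ⊓ stab θ : Subgroup G) :=
    { toFun := fun x => ⟨((x : U) : G), (x : U).2, x.2⟩
      invFun := fun x => ⟨⟨(x : G), x.2.1⟩, x.2.2⟩
      left_inv := fun x => rfl
      right_inv := fun x => rfl
      map_mul' := fun x y => rfl }
  exact cnt_congr p e (Subgroup.subgroupOfEquivOfLe hKU) _ _ (fun _ => rfl) _ _ (fun _ => rfl)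

end sub

theorem card_fiber {C X : Type*} [Finite C] (r : Setoid X) (R : C → X → Prop) (f : C → X)
    (hf : ∀ c, R c (f c)) (hR : ∀ c x y, R c x → (R c y ↔ r x y)) (q : Quotient r) :
    Nat.card {c : C // (Quotient.mk r (f c)) = q} = Nat.card {c : C // R c q.out} := by
  refine Nat.card_congr (Equiv.subtypeEquivRight fun c => ?_)
  rw [hR c (f c) q.out (hf c)]
  constructor
  · rintro rfl
    exact Setoid.symm (Quotient.mk_out (f c))
  · intro h
    rw [← Quotient.out_eq q]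
    exact Quotient.sound h

theorem card_eq_finsum {C X : Type*} [Finite C] [Finite X] (r : Setoid X) (f : C → X) :
    Nat.card C = ∑ᶠ q : Quotient r, Nat.card {c : C // (Quotient.mk r (f c)) = q} := by
  letI := Fintype.ofFinite (Quotient r)
  rw [finsum_eq_sum_of_fintype, ← Nat.card_sigma]
  exact Nat.card_congr (Equiv.sigmaFiberEquiv fun c => Quotient.mk r (f c)).symm

/-- A counting lemma. -/
theorem card_eq_of_fibers {A B X : Type*} [Finite A] [Finite B] [Finite X] (r : Setoid X)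
    (RA : A → X → Prop) (RB : B → X → Prop)
    (hA : ∀ a, ∃ x, RA a x) (hB : ∀ b, ∃ x, RB b x)
    (hA' : ∀ a x y, RA a x → (RA a y ↔ r x y))
    (hB' : ∀ b x y, RB b x → (RB b y ↔ r x y))
    (hcard : ∀ x, Nat.card {a // RA a x} = Nat.card {b // RB b x}) :
    Nat.card A = Nat.card B := by
  classical
  choose fA hfA using hA
  choose fB hfB using hB
  rw [card_eq_finsum r fA, card_eq_finsum r fB]
  congr 1
  funext q
  rw [card_fiber r RA fA hfA hA' q, card_fiber r RB fB hfB hB' q, hcard]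

end Cfsg.Agent.H672.RM
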