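import Mathlib
import Cfsg.Agent.H672.RM.StepA
import Cfsg.Agent.H595.Triple

/-!
# Character triples: counting characters of degree prime to `p`
-/

set_option autoImplicit false
set_option linter.style.haveILetI false
set_option linter.unusedSectionVars false
open Cfsg

namespace Cfsg.Agent.H672.RM

open Cfsg.Agent.Characters.Core Cfsg.Agent.Characters.Clifford Cfsg.Agent.H672
open Cfsg.Agent.H595.Triple Cfsg.Agent.H595.Central
open scoped ComplexConjugate

universe u

/-- being over a linear character of a central subgroup -/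
theorem over_lin_iff {A : Type*} [Group A] [Finite A] {N : Type*} [Group N] [Finite N]
    (j : N →* A) (hj : ∀ n, j n ∈ Subgroup.center A) {χ : A → ℂ} (hχ : IsIrrCharacter A χ)
    (l : N →* ℂˣ) : Over j χ (lf l) ↔ ∀ n, χ (j n) = χ 1 * l n := by
  classical
  letI := Fintype.ofFinite A
  letI := Fintype.ofFinite N
  constructor
  · intro h n
    have h1 := over_central j hj ⟨χ, hχ⟩ l ((over_iff _ _ _).1 h) 1 n
    rw [one_mul] at h1
    exact h1
  · intro h
    rw [over_iff]
    have e : χ ∘ j = χ 1 • lf l := by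
      funext n
      simp only [Function.comp, Pi.smul_apply, smul_eq_mul, lf_apply]
      exact h n
    rw [e, classInner_smul_left, classInner_irr_self (isIrr_lf l), mul_one]
    exact isIrr_apply_one_ne_zero hχ

section abs

variable {W A B N : Type u} [Group W] [Group A] [Group B] [Group N] [Finite W] [Finite A] [Finite B]
  [Finite N] (π : W →* A) (m : W →* B) (s : N →* W) {χR : W → ℂ} {θ : N → ℂ}

/-- The setting. -/
structure TSet (π : W →* A) (m : W →* B) (s : N →* W) (χR : W → ℂ) (θ : N → ℂ)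
    (c : π.ker →* ℂˣ) : Prop where
  surjπ : Function.Surjective π
  surjm : Function.Surjective m
  inj : Function.Injective s
  range : s.range = m.ker
  cen : π.ker ≤ Subgroup.center W
  irrR : IsIrrCharacter W χR
  irrθ : IsIrrCharacter N θ
  ext : ∀ n, χR (s n) = θ n
  hc : ∀ (x : W) (z : π.ker), χR (x * z) = χR x * c z

variable {π m s} {c : π.ker →* ℂˣ}

theorem TSet.irr_ker (h : TSet π m s χR θ c) : IsIrrCharacter m.ker (fun n : m.ker => χR n) := by
  have hχ : IsCharacter m.ker (fun n : m.ker => χR n) :=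
    isCharacter_comp m.ker.subtype (isIrr_isCharacter h.irrR)
  let s' : N →* m.ker := s.codRestrict m.ker (fun n => h.range ▸ ⟨n, rfl⟩)
  refine isIrr_of_comp s' hχ ?_
  have : (fun n : m.ker => χR n) ∘ s' = θ := funext h.ext
  rw [this]
  exact h.irrθ

/-- from `B` to `A` -/
theorem TSet.exists_down (h : TSet π m s χR θ c) {β : B → ℂ} (hβ : IsIrrCharacter B β)
    (hβl : Over (m.comp π.ker.subtype) β (lf c⁻¹)) :
    ∃ χ : IrrCharacter A, ∀ x, (χ : A → ℂ) (π x) = β (m x) * χR x := by
  have hcB : ∀ z : π.ker, (m.comp π.ker.subtype) z ∈ Subgroup.center B := by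
    intro z
    rw [Subgroup.mem_center_iff]
    intro b
    obtain ⟨x, rfl⟩ := h.surjm b
    change m x * m z = m z * m x
    rw [← map_mul, ← map_mul, Subgroup.mem_center_iff.1 (h.cen z.2) x]
  letI := Fintype.ofFinite B
  letI := Fintype.ofFinite π.ker
  have hmul : ∀ (b : B) (z : π.ker), β (b * m z) = β b * (c⁻¹) z := fun b z =>
    over_central (m.comp π.ker.subtype) hcB ⟨β, hβ⟩ c⁻¹ ((over_iff _ _ _).1 hβl) b z
  have hirr : IsIrrCharacter W (fun x => β (m x) * χR x) := by
    refine isIrr_mul_inflate m.ker h.irrR h.irr_ker (isIrr_comp m h.surjm hβ) ?_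
    intro x hx
    rw [MonoidHom.mem_ker.1 hx, map_one]
  obtain ⟨χ, hχ⟩ := descend π h.surjπ ⟨_, hirr⟩ (by
    intro x k hk
    change β (m (x * k)) * χR (x * k) = β (m x) * χR x
    rw [map_mul, hmul (m x) ⟨k, hk⟩, h.hc x ⟨k, hk⟩, MonoidHom.inv_apply,
      Units.val_inv_eq_inv_val]
    have h3 : ((c ⟨k, hk⟩ : ℂˣ) : ℂ) ≠ 0 := Units.ne_zero _
    field_simp)
  exact ⟨χ, hχ⟩

/-- from `A` to `B` -/
theorem TSet.exists_up (h : TSet π m s χR θ c) {χ : A → ℂ} (hχ : IsIrrCharacter A χ)
    (hχo : Over (π.comp s) χ θ) :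
    ∃ β : B → ℂ, IsIrrCharacter B β ∧ Over (m.comp π.ker.subtype) β (lf c⁻¹) ∧
      ∀ x, χ (π x) = β (m x) * χR x := by
  classical
  letI := Fintype.ofFinite W
  letI := Fintype.ofFinite N
  letI := Fintype.ofFinite m.ker
  have hψ : IsIrrCharacter W (χ ∘ π) := isIrr_comp π h.surjπ hχ
  set η : W → ℂ := fun g => (Nat.card m.ker : ℂ)⁻¹ *
    ∑ n : m.ker, (χ ∘ π) ((n : W) * g) * conj (χR ((n : W) * g)) with hη
  rcases CharactersDeep.CosetAverage.cosetAverage_dichotomy m.ker χR h.irrR h.irr_ker (χ ∘ π) hψ η hη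
    with ⟨h1, -⟩ | ⟨-, h1, h2⟩
  · exfalso
    rw [over_iff] at hχo
    apply hχo
    let e : N ≃* m.ker := (MonoidHom.ofInjective h.inj).trans (MulEquiv.subgroupCongr h.range)
    have he : ∀ n, ((e n : m.ker) : W) = s n := fun n => rfl
    have h3 := classInner_comp_mulEquiv e (fun n : m.ker => (χ ∘ π) n) (fun n : m.ker => χR n)
    rw [h1] at h3
    have e1 : (fun n : m.ker => (χ ∘ π) n) ∘ e = χ ∘ (π.comp s) := rfl
    have e2 : (fun n : m.ker => χR n) ∘ e = θ := funext h.ext
    rw [e1, e2] at h3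
    exact h3
  · have hinv : ∀ x k, m k = 1 → η (x * k) = η x := by
      intro x k hk
      have h3 : x * k = (x * k * x⁻¹) * x := by group
      have h4 : x * k * x⁻¹ ∈ m.ker := by
        rw [MonoidHom.mem_ker, map_mul, map_mul, hk, mul_one, map_inv, mul_inv_cancel]
      rw [h3]
      exact CharactersDeep.CosetAverage.cosetAverage_invariant m.ker
        (fun g => (χ ∘ π) g * conj (χR g)) ⟨_, h4⟩ x
    obtain ⟨β, hβ⟩ := descend m h.surjm ⟨η, h1⟩ hinv
    refine ⟨β, β.2, ?_, ?_⟩
    · have hcB : ∀ z : π.ker, (m.comp π.ker.subtype) z ∈ Subgroup.center B := by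
        intro z
        rw [Subgroup.mem_center_iff]
        intro b
        obtain ⟨x, rfl⟩ := h.surjm b
        change m x * m z = m z * m x
        rw [← map_mul, ← map_mul, Subgroup.mem_center_iff.1 (h.cen z.2) x]
      rw [over_lin_iff _ hcB β.2]
      intro z
      have e1 : (β : B → ℂ) ((m.comp π.ker.subtype) z) = η z := hβ z
      have e2 : (β : B → ℂ) 1 = η 1 := by
        have := hβ 1
        rwa [map_one] at this
      rw [e1, e2]
      simp only [hη]
      have h5 : ∀ n : m.ker, (χ ∘ π) ((n : W) * z) * conj (χR ((n : W) * z)) =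
          ((χ ∘ π) ((n : W) * 1) * conj (χR ((n : W) * 1))) * ((c⁻¹) z : ℂˣ) := by
        intro n
        rw [h.hc, mul_one, map_mul]
        have e3 : (χ ∘ π) ((n : W) * z) = (χ ∘ π) n := by
          change χ (π (n * z)) = χ (π n)
          rw [map_mul, MonoidHom.mem_ker.1 z.2, mul_one]
        rw [e3, MonoidHom.inv_apply, Units.val_inv_eq_inv_val]
        have e4 : conj ((c z : ℂˣ) : ℂ) = ((c z : ℂˣ) : ℂ)⁻¹ := by
          have := lf_mul_conj c z
          rw [eq_comm, ← mul_eq_one_iff_inv_eq₀ (Units.ne_zero _)]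
          exact this
        rw [e4]
        ring
      rw [Finset.sum_congr rfl fun n _ => h5 n, ← Finset.sum_mul, ← mul_assoc]
    · intro x
      rw [hβ x]
      have := congrFun h2 x
      rw [Pi.mul_apply] at this
      rw [mul_comm]
      exact this

theorem TSet.nonvanish (h : TSet π m s χR θ c) (x : W) : ∃ n ∈ m.ker, χR (n * x) ≠ 0 := by
  classical
  letI := Fintype.ofFinite W
  letI := Fintype.ofFinite m.ker
  by_contra hcon
  push Not at hcon
  have h1 := CharactersDeep.CosetAverage.cosetAverage_self m.ker χR h.irrR h.irr_ker x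
  rw [Finset.sum_eq_zero fun n _ => by rw [hcon n n.2, zero_mul], mul_zero] at h1
  exact zero_ne_one h1

/-- **Counting through a character triple isomorphism.** -/
theorem TSet.cnt_eq (h : TSet π m s χR θ c) {p : ℕ} (hp : p.Prime) (hd : ¬ p ∣ charDegree θ) :
    Cnt p (π.comp s) θ = Cnt p (m.comp π.ker.subtype) (lf c⁻¹) := by
  classical
  letI := Fintype.ofFinite N
  have hdeg : ∀ {χ : A → ℂ} {β : B → ℂ}, IsIrrCharacter A χ → IsIrrCharacter B β →
      (∀ x, χ (π x) = β (m x) * χR x) → charDegree χ = charDegree β * charDegree θ := by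
    intro χ β hχ hβ hx
    apply charDegree_of_eq
    have h1 := hx 1
    rw [map_one, map_one] at h1
    have h2 := h.ext 1
    rw [map_one] at h2
    rw [h1, h2, ← coe_charDegree hβ, ← coe_charDegree h.irrθ]
    push_cast; rfl
  have hover : ∀ {χ : A → ℂ} {β : B → ℂ}, IsIrrCharacter B β →
      (∀ x, χ (π x) = β (m x) * χR x) → Over (π.comp s) χ θ := by
    intro χ β hβ hx
    rw [over_iff]
    have e : χ ∘ (π.comp s) = β 1 • θ := by
      funext n
      change χ (π (s n)) = β 1 * θ n
      have h1 : s n ∈ m.ker := h.range ▸ ⟨n, rfl⟩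
      rw [hx, h.ext, MonoidHom.mem_ker.1 h1]
    rw [e, classInner_smul_left, classInner_irr_self h.irrθ, mul_one]
    exact isIrr_apply_one_ne_zero hβ
  let F : {β : IrrCharacter B // ¬ p ∣ charDegree (β : B → ℂ) ∧
      Over (m.comp π.ker.subtype) (β : B → ℂ) (lf c⁻¹)} →
      {χ : IrrCharacter A // ¬ p ∣ charDegree (χ : A → ℂ) ∧ Over (π.comp s) (χ : A → ℂ) θ} :=
    fun β => ⟨(h.exists_down β.1.2 β.2.2).choose, by
      have hx := (h.exists_down β.1.2 β.2.2).choose_spec
      refine ⟨?_, hover β.1.2 hx⟩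
      rw [hdeg (h.exists_down β.1.2 β.2.2).choose.2 β.1.2 hx]
      intro h1
      rcases (Nat.Prime.dvd_mul hp).1 h1 with h1 | h1
      · exact β.2.1 h1
      · exact hd h1⟩
  have hF : ∀ β x, ((F β).1 : A → ℂ) (π x) = (β.1 : B → ℂ) (m x) * χR x := fun β =>
    (h.exists_down β.1.2 β.2.2).choose_spec
  have hF1 : Function.Injective F := by
    intro β β' hββ
    apply Subtype.ext
    apply Subtype.ext
    funext b
    obtain ⟨x, rfl⟩ := h.surjm b
    obtain ⟨n, hn, h1⟩ := h.nonvanish x
    have h2 := hF β (n * x)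
    rw [hββ, hF β' (n * x), map_mul, MonoidHom.mem_ker.1 hn, one_mul] at h2
    exact (mul_right_cancel₀ h1 h2).symm
  have hF2 : Function.Surjective F := by
    rintro ⟨χ, h1, h2⟩
    obtain ⟨β, hβ, h3, h4⟩ := h.exists_up χ.2 h2
    refine ⟨⟨⟨β, hβ⟩, ?_, h3⟩, ?_⟩
    · rw [hdeg χ.2 hβ h4] at h1
      exact fun h5 => h1 (h5.mul_right _)
    · apply Subtype.ext
      apply Subtype.ext
      funext a
      obtain ⟨x, rfl⟩ := h.surjπ a
      rw [hF, h4]
  exact (Nat.card_congr (Equiv.ofBijective F ⟨hF1, hF2⟩)).symm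

end abs

end Cfsg.Agent.H672.RM
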